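import Mathlib.AlgebraicGeometry.Morphisms.SchemeTheoreticallyDominant
import Mathlib.AlgebraicGeometry.Morphisms.Separated
import Mathlib.AlgebraicGeometry.IdealSheaf.Subscheme

set_option autoImplicit false
universe u
open CategoryTheory AlgebraicGeometry Limits TopologicalSpace

namespace Groth.Agent.RatMap.Sub

variable {X Y : Scheme.{u}}

lemma isReduced_subscheme (I : X.IdealSheafData) (h : ∀ U : X.affineOpens, (I.ideal U).IsRadical) :
    IsReduced I.subscheme := by
  have : ∀ i, IsReduced (I.subschemeCover.openCover.X i) := fun (U : X.affineOpens) => by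
    have : _root_.IsReduced (Γ(X, U) ⧸ I.ideal U) :=
      (Ideal.isRadical_iff_quotient_reduced _).mp (h U)
    show IsReduced (Spec (.of (Γ(X, U) ⧸ I.ideal U)))
    infer_instance
  exact IsReduced.of_openCover _ I.subschemeCover.openCover

lemma vanishingIdeal_le_ker [IsReduced X] (f : X ⟶ Y) (C : Closeds Y) (h : Set.range f ⊆ C) :
    Scheme.IdealSheafData.vanishingIdeal C ≤ f.ker := by
  refine Scheme.IdealSheafData.le_ofIdeals_iff.mpr fun U s hs => ?_
  rw [RingHom.mem_ker, ← basicOpen_eq_bot_iff, ← Scheme.preimage_basicOpen]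
  ext x
  constructor
  swap
  · exact fun hx => False.elim hx
  intro hx
  have hx' : f x ∈ (U.1 : Y.Opens) := Y.basicOpen_le s hx
  rw [← SetLike.mem_coe, ← U.2.range_fromSpec] at hx'
  obtain ⟨p, hp⟩ := hx'
  have hp' : p ∈ U.2.fromSpec ⁻¹' (C : Set Y) := by
    rw [Set.mem_preimage, hp]; exact h ⟨x, rfl⟩
  have hps : s ∈ p.asIdeal := (PrimeSpectrum.mem_vanishingIdeal _ _).mp hs p hp'
  have h2 : p ∈ U.2.fromSpec ⁻¹ᵁ Y.basicOpen s := by
    show U.2.fromSpec p ∈ Y.basicOpen s
    rw [hp]; exact hx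
  rw [U.2.fromSpec_preimage_basicOpen] at h2
  exact absurd hps h2

end Groth.Agent.RatMap.Sub
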