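import Mathlib.RingTheory.OrderOfVanishing.Noetherian
import Mathlib.RingTheory.DiscreteValuationRing.TFAE
import Mathlib.RingTheory.Localization.AtPrime.Basic

set_option autoImplicit false

namespace Groth.Agent.RatMap.OrdLoc

variable {A T K : Type*} [CommRing A] [IsDomain A] [IsNoetherianRing A] [CommRing T] [IsDomain T]
  [IsLocalRing T] [IsNoetherianRing T] [Ring.KrullDimLE 1 T] [Field K] [Algebra T K]
  [IsFractionRing T K] [Algebra A T] (p : Ideal A) [p.IsPrime] [IsLocalization.AtPrime T p]

lemma ordFrac_generator {π : A} (hπ : p = Ideal.span {π}) (h0 : π ≠ 0) :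
    Ring.ordFrac T (algebraMap T K (algebraMap A T π)) =
      ((Multiplicative.ofAdd (1 : ℤ) : Multiplicative ℤ) : WithZero (Multiplicative ℤ)) := by
  set t := algebraMap A T π with ht
  have hmax : IsLocalRing.maximalIdeal T = Ideal.span {t} := by
    rw [← IsLocalization.AtPrime.map_eq_maximalIdeal p T, hπ, Ideal.map_span, Set.image_singleton]
  have hinj : Function.Injective (algebraMap A T) :=
    IsLocalization.injective T p.primeCompl_le_nonZeroDivisors
  have ht0 : t ≠ 0 := (map_ne_zero_iff _ hinj).mpr h0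
  have hpr : Prime t := by
    rw [← Ideal.span_singleton_prime ht0, ← hmax]
    exact (IsLocalRing.maximalIdeal.isMaximal T).isPrime
  have hnf : ¬ IsField T := fun hF => ht0 (by
    have := IsLocalRing.isField_iff_maximalIdeal_eq.mp hF
    rw [hmax, Ideal.span_singleton_eq_bot] at this
    exact this)
  have hdvr : IsDiscreteValuationRing T :=
    (((IsDiscreteValuationRing.TFAE T hnf).out 0 4) : IsDiscreteValuationRing T ↔
      (IsLocalRing.maximalIdeal T).IsPrincipal).mpr ⟨t, hmax⟩
  rw [Ring.ordFrac_irreducible hpr.irreducible]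
  rfl

lemma ordFrac_not_mem {a : A} (ha : a ∉ p) :
    Ring.ordFrac T (algebraMap T K (algebraMap A T a)) =
      ((Multiplicative.ofAdd (0 : ℤ) : Multiplicative ℤ) : WithZero (Multiplicative ℤ)) := by
  rw [Ring.ordFrac_of_isUnit (IsLocalization.map_units (M := p.primeCompl) T ⟨a, ha⟩)]
  rfl

end Groth.Agent.RatMap.OrdLoc
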